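/-
Tools for local flatness with a vanishing map on `Tor₁(M, R/I)`: the kernel of `I ⊗ M ⊗ P → M ⊗ P` when
`M/IM` is flat over `R/I`, and flatness along maps which are localisations for a monoid of endomorphisms.
-/
import Mathlib
import Groth.Agent.LocalCrit.Basic

set_option autoImplicit false
universe u

open TensorProduct

namespace Groth.Agent.TorFlat

section Key

variable {R : Type u} [CommRing R]

theorem exact_lift {X Y Z : Type u} [AddCommGroup X] [Module R X] [AddCommGroup Y] [Module R Y]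
    [AddCommGroup Z] [Module R Z] (P : Type u) [AddCommGroup P] [Module R P] (f : X →ₗ[R] Y)
    (g : Y →ₗ[R] Z) (h : Function.Exact f g) (hg : Function.Surjective g) (α : Y ⊗[R] P)
    (hα : g.rTensor P α = 0) : ∃ b, f.rTensor P b = α :=
  (rTensor_exact P h hg α).1 hα

theorem rTensor_injective_of_quot (I : Ideal R) {F M : Type u} [AddCommGroup F] [Module R F]
    [AddCommGroup M] [Module R M] (π : F →ₗ[R] M) (hπ : Function.Surjective π)
    [Module.Flat (R ⧸ I) ((R ⧸ I) ⊗[R] M)] (P : Type u) [AddCommGroup P] [Module R P] :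
    Function.Injective
      ((((π.baseChange (R ⧸ I)).ker).subtype.restrictScalars R).rTensor P) := by
  let C : Submodule (R ⧸ I) ((R ⧸ I) ⊗[R] F) := LinearMap.ker (π.baseChange (R ⧸ I))
  have hex : Function.Exact C.subtype (π.baseChange (R ⧸ I)) := LinearMap.exact_subtype_ker_map _
  have h := LinearMap.lTensor_injective_of_exact_of_flat (M := C) (N := (R ⧸ I) ⊗[R] F)
    (π.baseChange (R ⧸ I)) (LinearMap.lTensor_surjective _ hπ) C.subtype C.subtype_injective
    hex ((R ⧸ I) ⊗[R] P)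
  let eC := AlgebraTensorModule.cancelBaseChange R (R ⧸ I) (R ⧸ I) C P
  let eF := AlgebraTensorModule.cancelBaseChange R (R ⧸ I) (R ⧸ I) ((R ⧸ I) ⊗[R] F) P
  have hr : Function.Injective (C.subtype.rTensor ((R ⧸ I) ⊗[R] P)) := by
    intro a b hab
    apply (TensorProduct.comm (R ⧸ I) _ _).injective
    apply h
    have e : ∀ t, C.subtype.lTensor ((R ⧸ I) ⊗[R] P) (TensorProduct.comm (R ⧸ I) _ _ t) =
        TensorProduct.comm (R ⧸ I) _ _ (C.subtype.rTensor ((R ⧸ I) ⊗[R] P) t) := by
      intro t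
      induction t with
      | zero => simp
      | tmul c p => simp
      | add x y hx hy => simp only [map_add, hx, hy]
    rw [e, e, hab]
  intro a b hab
  obtain ⟨a, rfl⟩ := eC.surjective a
  obtain ⟨b, rfl⟩ := eC.surjective b
  congr 1
  apply hr
  apply eF.injective
  have e : ∀ t, eF (C.subtype.rTensor ((R ⧸ I) ⊗[R] P) t) =
      (C.subtype.restrictScalars R).rTensor P (eC t) := by
    intro t
    induction t with
    | zero => simp
    | add x y hx hy => simp only [map_add, hx, hy]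
    | tmul c q =>
      induction q with
      | zero => simp
      | add x y hx hy => simp only [tmul_add, map_add, hx, hy]
      | tmul r p => simp [eC, eF]
  rw [e, e]
  exact hab

set_option maxHeartbeats 100000 in
theorem lift_ker (I : Ideal R) {F M A B : Type u} [AddCommGroup F] [Module R F] [AddCommGroup M]
    [Module R M] [AddCommGroup A] [Module R A] [AddCommGroup B] [Module R B]
    [Module.Flat (R ⧸ I) ((R ⧸ I) ⊗[R] M)] (P : Type u) [AddCommGroup P] [Module R P]
    (ι : A →ₗ[R] F) (π : F →ₗ[R] M) (hπ : Function.Surjective π) (hex : Function.Exact ι π)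
    (β : B →ₗ[R] A) (hβ : ∀ a, ι a ∈ I • (⊤ : Submodule R F) ↔ a ∈ LinearMap.range β)
    (α : A ⊗[R] P) (hα : ((TensorProduct.mk R (R ⧸ I) F 1) ∘ₗ ι).rTensor P α = 0) :
    ∃ b, β.rTensor P b = α := by
  let C : Submodule (R ⧸ I) ((R ⧸ I) ⊗[R] F) := LinearMap.ker (π.baseChange (R ⧸ I))
  have hmem : ∀ a : A, (1 : R ⧸ I) ⊗ₜ[R] ι a ∈ C := fun a => by
    rw [LinearMap.mem_ker, LinearMap.baseChange_tmul, hex.apply_apply_eq_zero, tmul_zero]
  let κ : A →ₗ[R] C :=
    { toFun := fun a => ⟨_, hmem a⟩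
      map_add' := fun a b => Subtype.ext (((TensorProduct.mk R (R ⧸ I) F 1).comp ι).map_add a b)
      map_smul' := fun c a => Subtype.ext (((TensorProduct.mk R (R ⧸ I) F 1).comp ι).map_smul c a) }
  have hκs : Function.Surjective κ := by
    rintro ⟨c, hc⟩
    obtain ⟨t, ht⟩ := (lTensor_exact (R ⧸ I) hex hπ c).1 hc
    obtain ⟨a, rfl⟩ := LocalCrit.exists_one_tmul I t
    exact ⟨a, Subtype.ext ht⟩
  have hκe : Function.Exact β κ := by
    intro a
    constructor
    · intro ha
      exact (hβ a).1 ((LocalCrit.one_tmul_eq_zero_iff I _).1 (congrArg Subtype.val ha))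
    · intro ha
      exact Subtype.ext ((LocalCrit.one_tmul_eq_zero_iff I _).2 ((hβ a).2 ha))
  refine exact_lift (R := R) (X := B) (Y := A) (Z := C) P β κ hκe hκs α ?_
  apply rTensor_injective_of_quot I π hπ P
  rw [map_zero, ← LinearMap.comp_apply, ← LinearMap.rTensor_comp]
  have he : C.subtype.restrictScalars R ∘ₗ κ = (TensorProduct.mk R (R ⧸ I) F 1) ∘ₗ ι :=
    LinearMap.ext fun a => rfl
  show ((C.subtype.restrictScalars R) ∘ₗ κ).rTensor P α = 0
  rw [he, hα]

theorem kill_flat (I : Ideal R) {F M P X : Type u} [AddCommGroup F] [Module R F] [Module.Flat R F]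
    [AddCommGroup M] [Module R M] [AddCommGroup P] [Module R P] [AddCommGroup X] [Module R X]
    (π : F →ₗ[R] M) (θ : (I ⊗[R] M) ⊗[R] P →ₗ[R] X)
    (hK : ∀ k : I ⊗[R] P, LocalCrit.mulMap I P k = 0 → ∀ m : M,
      θ ((TensorProduct.rightComm R I P M) (k ⊗ₜ m)) = 0)
    (v : (I ⊗[R] F) ⊗[R] P) (hv : (LocalCrit.mulMap I F).rTensor P v = 0) :
    θ ((π.lTensor I).rTensor P v) = 0 := by
  obtain ⟨v', rfl⟩ := (TensorProduct.rightComm R I P F).surjective v
  have hnat : ∀ t, (LocalCrit.mulMap I F).rTensor P (TensorProduct.rightComm R I P F t) =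
      TensorProduct.comm R P F ((LocalCrit.mulMap I P).rTensor F t) := by
    intro t
    induction t with
    | zero => simp
    | add x y hx hy => simp only [map_add, hx, hy]
    | tmul q x =>
      induction q with
      | zero => simp
      | add x y hx hy => simp only [add_tmul, map_add, hx, hy]
      | tmul i p => simp [smul_tmul]
  rw [hnat, LinearEquiv.map_eq_zero_iff] at hv
  have hexK : Function.Exact (LinearMap.ker (LocalCrit.mulMap I P)).subtype (LocalCrit.mulMap I P) :=
    LinearMap.exact_subtype_ker_map _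
  obtain ⟨t, rfl⟩ := (Module.Flat.rTensor_exact (N := LinearMap.ker (LocalCrit.mulMap I P)) F hexK v').1 hv
  clear hv
  induction t with
  | zero => simp
  | add x y hx hy => simp only [map_add, hx, hy, add_zero]
  | tmul k x =>
    have h4 : ∀ q : I ⊗[R] P, (π.lTensor I).rTensor P (TensorProduct.rightComm R I P F (q ⊗ₜ x)) =
        TensorProduct.rightComm R I P M (q ⊗ₜ π x) := by
      intro q
      induction q with
      | zero => simp
      | add x y hx hy => simp only [add_tmul, map_add, hx, hy]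
      | tmul i p => simp
    rw [LinearMap.rTensor_tmul, h4]
    exact hK _ k.2 _

theorem kill_aux (I : Ideal R) {F M A B P X : Type u} [AddCommGroup F] [Module R F] [Module.Flat R F]
    [AddCommGroup M] [Module R M] [AddCommGroup A] [Module R A] [AddCommGroup B] [Module R B]
    [AddCommGroup P] [Module R P] [AddCommGroup X] [Module R X]
    [Module.Flat (R ⧸ I) ((R ⧸ I) ⊗[R] M)] (ι : A →ₗ[R] F) (π : F →ₗ[R] M)
    (hπ : Function.Surjective π) (hex : Function.Exact ι π) (β : B →ₗ[R] A) (bsub : B →ₗ[R] I ⊗[R] F)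
    (hβc : ι ∘ₗ β = LocalCrit.mulMap I F ∘ₗ bsub)
    (hβ : ∀ a, ι a ∈ I • (⊤ : Submodule R F) ↔ a ∈ LinearMap.range β)
    (θ : (I ⊗[R] M) ⊗[R] P →ₗ[R] X)
    (hT : ∀ t : I ⊗[R] M, LocalCrit.mulMap I M t = 0 → ∀ p : P, θ (t ⊗ₜ p) = 0)
    (hK : ∀ k : I ⊗[R] P, LocalCrit.mulMap I P k = 0 → ∀ m : M,
      θ ((TensorProduct.rightComm R I P M) (k ⊗ₜ m)) = 0)
    (z : (I ⊗[R] M) ⊗[R] P) (hz : (LocalCrit.mulMap I M).rTensor P z = 0) : θ z = 0 := by
  obtain ⟨w, hw⟩ := LinearMap.rTensor_surjective P (LinearMap.lTensor_surjective I hπ) z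
  have hμ : LocalCrit.mulMap I M ∘ₗ π.lTensor I = π ∘ₗ LocalCrit.mulMap I F :=
    LinearMap.ext fun x => LocalCrit.mulMap_lTensor I π x
  have h1 : π.rTensor P ((LocalCrit.mulMap I F).rTensor P w) = 0 := by
    rw [← LinearMap.comp_apply, ← LinearMap.rTensor_comp, ← hμ, LinearMap.rTensor_comp,
      LinearMap.comp_apply, hw, hz]
  obtain ⟨α, hα⟩ := (rTensor_exact P hex hπ _).1 h1
  have hz' : (TensorProduct.mk R (R ⧸ I) F 1) ∘ₗ LocalCrit.mulMap I F = 0 :=
    LinearMap.ext fun x => (LocalCrit.one_tmul_eq_zero_iff I _).2 (LocalCrit.mulMap_mem I x)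
  obtain ⟨b, hb⟩ := lift_ker I P ι π hπ hex β hβ α (by
    rw [LinearMap.rTensor_comp, LinearMap.comp_apply, hα, ← LinearMap.comp_apply,
      ← LinearMap.rTensor_comp, hz', LinearMap.rTensor_zero, LinearMap.zero_apply])
  have h3 : (LocalCrit.mulMap I F).rTensor P (w - bsub.rTensor P b) = 0 := by
    rw [map_sub, sub_eq_zero, ← hα, ← hb, ← LinearMap.comp_apply, ← LinearMap.rTensor_comp, hβc,
      LinearMap.rTensor_comp]
    rfl
  have h5 := kill_flat I π θ hK _ h3
  rw [map_sub, map_sub, sub_eq_zero] at h5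
  rw [← hw, h5]
  clear hb h3 h5
  induction b with
  | zero => simp
  | add x y hx hy => rw [map_add, map_add, map_add, hx, hy, add_zero]
  | tmul c p =>
    rw [LinearMap.rTensor_tmul, LinearMap.rTensor_tmul]
    refine hT _ ?_ p
    have h6 : π (LocalCrit.mulMap I F (bsub c)) = 0 := by
      rw [← LinearMap.comp_apply (LocalCrit.mulMap I F), ← hβc]
      exact hex.apply_apply_eq_zero _
    rw [LocalCrit.mulMap_lTensor, h6]

/-- If `M/IM` is flat over `R/I`, a linear map on `(I ⊗ M) ⊗ P` killing `T ⊗ P` (`T` the kernel of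
`I ⊗ M → M`) and `M ⊗ K` (`K` the kernel of `I ⊗ P → P`) kills the kernel of `(I ⊗ M) ⊗ P → M ⊗ P`. -/
theorem kill_ker (I : Ideal R) {M : Type u} [AddCommGroup M] [Module R M]
    [Module.Flat (R ⧸ I) ((R ⧸ I) ⊗[R] M)] {P : Type u} [AddCommGroup P] [Module R P]
    {X : Type u} [AddCommGroup X] [Module R X] (θ : (I ⊗[R] M) ⊗[R] P →ₗ[R] X)
    (hT : ∀ t : I ⊗[R] M, LocalCrit.mulMap I M t = 0 → ∀ p : P, θ (t ⊗ₜ p) = 0)
    (hK : ∀ k : I ⊗[R] P, LocalCrit.mulMap I P k = 0 → ∀ m : M,
      θ ((TensorProduct.rightComm R I P M) (k ⊗ₜ m)) = 0)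
    (z : (I ⊗[R] M) ⊗[R] P) (hz : (LocalCrit.mulMap I M).rTensor P z = 0) : θ z = 0 := by
  let π : (M →₀ R) →ₗ[R] M := Finsupp.linearCombination R (id : M → M)
  let μF := LocalCrit.mulMap I (M →₀ R)
  let A := LinearMap.ker π
  let B := A.comap μF
  let β : B →ₗ[R] A := (μF.comp B.subtype).codRestrict A fun b => b.2
  refine kill_aux (A := A) (B := B) I A.subtype π (fun m => ⟨Finsupp.single m 1, by simp [π]⟩)
    (LinearMap.exact_subtype_ker_map π) β B.subtype (LinearMap.ext fun _ => rfl) (fun a => ⟨fun ha => ?_, ?_⟩) θ hT hK z hz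
  · obtain ⟨y, hy⟩ := LocalCrit.exists_mulMap_eq ha
    exact ⟨⟨y, show μF y ∈ A from hy.symm ▸ a.2⟩, Subtype.ext hy⟩
  · rintro ⟨b, rfl⟩
    exact LocalCrit.mulMap_mem I _

end Key

section Frac

variable {A : Type u} [CommRing A] {W : Type u} [CommMonoid W] {N L : Type u}
  [AddCommGroup N] [Module A N] [AddCommGroup L] [Module A L]

/-- `g` is a localisation with respect to a commutative monoid of endomorphisms. -/
structure IsFrac (ρN : W →* Module.End A N) (ρL : W →* Module.End A L) (g : N →ₗ[A] L) : Prop where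
  unit : ∀ w, Function.Bijective (ρL w)
  comm : ∀ w y, g (ρN w y) = ρL w (g y)
  surj : ∀ z, ∃ w y, ρL w z = g y
  ker : ∀ y, g y = 0 → ∃ w, ρN w y = 0

variable {ρN : W →* Module.End A N} {ρL : W →* Module.End A L} {g : N →ₗ[A] L}

theorem IsFrac.comm_lTensor (h : IsFrac ρN ρL g) (K : Type u) [AddCommGroup K] [Module A K] (w : W)
    (y : K ⊗[A] N) : g.lTensor K ((ρN w).lTensor K y) = (ρL w).lTensor K (g.lTensor K y) := by
  rw [← LinearMap.comp_apply, ← LinearMap.lTensor_comp, ← LinearMap.comp_apply, ← LinearMap.lTensor_comp]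
  congr 2
  exact LinearMap.ext fun x => h.comm w x

theorem IsFrac.unit_lTensor (h : IsFrac ρN ρL g) (K : Type u) [AddCommGroup K] [Module A K] (w : W) :
    Function.Bijective ((ρL w).lTensor K) :=
  ((LinearEquiv.ofBijective (ρL w) (h.unit w)).lTensor K).bijective

theorem IsFrac.surj_lTensor (h : IsFrac ρN ρL g) (K : Type u) [AddCommGroup K] [Module A K]
    (z : K ⊗[A] L) : ∃ w y, (ρL w).lTensor K z = g.lTensor K y := by
  induction z with
  | zero => exact ⟨1, 0, by simp⟩
  | tmul k l =>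
    obtain ⟨w, y, hy⟩ := h.surj l
    exact ⟨w, k ⊗ₜ y, by simp [hy]⟩
  | add a b ha hb =>
    obtain ⟨w, y, hy⟩ := ha
    obtain ⟨v, x, hx⟩ := hb
    refine ⟨v * w, (ρN v).lTensor K y + (ρN w).lTensor K x, ?_⟩
    rw [map_add, map_add, h.comm_lTensor, h.comm_lTensor, ← hy, ← hx,
      ← LinearMap.comp_apply, ← LinearMap.lTensor_comp, ← LinearMap.comp_apply ((ρL w).lTensor K),
      ← LinearMap.lTensor_comp]
    congr 1
    · rw [← Module.End.mul_eq_comp, ← map_mul]
    · rw [← Module.End.mul_eq_comp, ← map_mul, mul_comm]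

theorem IsFrac.flat (h : IsFrac ρN ρL g) [Module.Flat A N] : Module.Flat A L := by
  rw [Module.Flat.iff_rTensor_injective']
  intro J
  rw [injective_iff_map_eq_zero]
  intro z hz
  obtain ⟨w, y, hy⟩ := h.surj_lTensor J z
  let μN := (TensorProduct.lid A N).toLinearMap ∘ₗ J.subtype.rTensor N
  let μL := (TensorProduct.lid A L).toLinearMap ∘ₗ J.subtype.rTensor L
  have hnat : ∀ (f : N →ₗ[A] L) t, f (μN t) = μL (f.lTensor J t) := fun f t => by
    induction t with
    | zero => simp
    | add a b ha hb => simp only [map_add, ha, hb]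
    | tmul j n => simp [μN, μL]
  have hnatL : ∀ (f : L →ₗ[A] L) t, f (μL t) = μL (f.lTensor J t) := fun f t => by
    induction t with
    | zero => simp
    | add a b ha hb => simp only [map_add, ha, hb]
    | tmul j n => simp [μL]
  have hnatN : ∀ (f : N →ₗ[A] N) t, f (μN t) = μN (f.lTensor J t) := fun f t => by
    induction t with
    | zero => simp
    | add a b ha hb => simp only [map_add, ha, hb]
    | tmul j n => simp [μN]
  have hgy : g (μN y) = 0 := by
    rw [hnat, ← hy, ← hnatL]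
    simp [μL, hz]
  obtain ⟨v, hv⟩ := h.ker _ hgy
  rw [hnatN] at hv
  have hy0 : (ρN v).lTensor J y = 0 := by
    apply Module.Flat.rTensor_preserves_injective_linearMap J.subtype J.subtype_injective
    apply (TensorProduct.lid A N).injective
    rw [map_zero, map_zero]
    exact hv
  have h0 := h.comm_lTensor J v y
  rw [hy0, map_zero, ← hy] at h0
  exact (h.unit_lTensor J w).1 ((h.unit_lTensor J v).1 (by rw [← h0, map_zero, map_zero]))

theorem IsFrac.baseChange (h : IsFrac ρN ρL g) (I : Ideal A) :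
    IsFrac ((Module.End.baseChangeHom A (A ⧸ I) N).toMonoidHom.comp ρN)
      ((Module.End.baseChangeHom A (A ⧸ I) L).toMonoidHom.comp ρL) (g.baseChange (A ⧸ I)) where
  unit w := by
    show Function.Bijective ((ρL w).baseChange (A ⧸ I))
    rw [LinearMap.baseChange_eq_ltensor]
    exact h.unit_lTensor _ w
  comm w y := h.comm_lTensor _ w y
  surj z := h.surj_lTensor _ z
  ker y hy := by
    obtain ⟨y, rfl⟩ := LocalCrit.exists_one_tmul I y
    rw [LinearMap.baseChange_tmul, LocalCrit.one_tmul_eq_zero_iff] at hy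
    obtain ⟨t, ht⟩ := LocalCrit.exists_mulMap_eq hy
    obtain ⟨w, s, hs⟩ := h.surj_lTensor I t
    have h1 : g (ρN w y - LocalCrit.mulMap I N s) = 0 := by
      rw [map_sub, h.comm, ← LocalCrit.mulMap_lTensor I g s, ← hs, LocalCrit.mulMap_lTensor, ht, sub_self]
    obtain ⟨v, hv⟩ := h.ker _ h1
    refine ⟨v * w, ?_⟩
    show (ρN (v * w)).baseChange (A ⧸ I) (1 ⊗ₜ y) = 0
    rw [map_sub, sub_eq_zero, ← Module.End.mul_apply, ← map_mul, ← LocalCrit.mulMap_lTensor] at hv
    rw [LinearMap.baseChange_tmul, LocalCrit.one_tmul_eq_zero_iff, hv]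
    exact LocalCrit.mulMap_mem I _

end Frac

end Groth.Agent.TorFlat
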